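import Cfsg.Agent.H571.DExtD

/-!
# TEAM RV: row predicates for S4322 and S3850 (`D_π` is closed under extensions and normal subgroups) (helper571)

For a simple group `S` and a set of primes `π`:

* `DB π S` : what `D_π(G)` gives for the factors `S` of a minimal normal subgroup of `G`;
* `RowN π S` : `DB π S → IsCPiGroup π S` (then `Dom π S`);
* `RowE π S` : `Dom π S` implies that every `π`-subgroup of `Aut S` normalises a Hall `π`-subgroup of `S`;
* `FHall π S` : a Hall `π`-subgroup with an abelian normal Hall `(π \ {r})`-subgroup (`r` a prime; the rest is an `r`-group).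
-/

set_option autoImplicit false

namespace Cfsg.Agent.H571.RV

open Subgroup Cfsg Cfsg.Agent.H988.CPi Cfsg.Agent.H571.DExt

/-- the inner automorphisms -/
def inn (S : Type*) [Group S] : Subgroup (MulAut S) := (MulAut.conj : S →* MulAut S).range

instance inn_normal (S : Type*) [Group S] : (inn S).Normal := by
  refine ⟨?_⟩
  rintro _ ⟨s, rfl⟩ α
  refine ⟨α s, ?_⟩
  ext x
  simp [MulAut.mul_apply]

/-- the automorphisms which stabilise `H` -/
def stab {S : Type*} [Group S] (H : Subgroup S) : Subgroup (MulAut S) where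
  carrier := {α | H.map (α : S ≃* S).toMonoidHom = H}
  mul_mem' {α β} hα hβ := by
    have h1 : H.map (α * β : MulAut S).toMonoidHom = (H.map (β : S ≃* S).toMonoidHom).map (α : S ≃* S).toMonoidHom := by
      rw [Subgroup.map_map]; rfl
    exact h1.trans (by rw [hβ]; exact hα)
  one_mem' := by
    show H.map (MonoidHom.id S) = H
    exact Subgroup.map_id H
  inv_mem' {α} hα := by
    have h1 : (H.map (α : S ≃* S).toMonoidHom).map (α⁻¹ : MulAut S).toMonoidHom = H := by
      rw [Subgroup.map_map]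
      convert Subgroup.map_id H
      ext x
      exact MulEquiv.symm_apply_apply α x
    rwa [show H.map (α : S ≃* S).toMonoidHom = H from hα] at h1

theorem mem_stab {S : Type*} [Group S] {H : Subgroup S} {α : MulAut S} :
    α ∈ stab H ↔ H.map (α : S ≃* S).toMonoidHom = H := Iff.rfl

/-- all prime divisors of `|S|` lie in `π` -/
def PiGrp (π : Set ℕ) (S : Type*) : Prop := PiN π (Nat.card S)

/-- at most one prime of `π` divides `|S|` -/
def OnePrime (π : Set ℕ) (S : Type*) : Prop :=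
  ∀ p q : ℕ, p.Prime → q.Prime → p ∈ π → q ∈ π → p ∣ Nat.card S → q ∣ Nat.card S → p = q

/-- A Hall `π`-subgroup `H` with a normal abelian subgroup `A` of order prime to `r` such that `H / A` is an `r`-group. -/
def FHall (π : Set ℕ) (S : Type*) [Group S] : Prop :=
  ∃ r : ℕ, r.Prime ∧ ∃ H A : Subgroup S, IsPiHall π H ∧ A ≤ H ∧ H ≤ normalizer (A : Set S) ∧
    (∀ a ∈ A, ∀ b ∈ A, a * b = b * a) ∧ ¬ r ∣ Nat.card A ∧ ∀ p : ℕ, p.Prime → p ∣ A.relIndex H → p = r

/-- What `D_π(G)` gives for a factor `S` of a minimal normal subgroup of `G`: every `π`-subgroup of `S` lies in a Hall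
`π`-subgroup of `S`; for some group `Inn S ≤ 𝒜 ≤ Aut S` (the automorphisms induced by `G`) all Hall `π`-subgroups of `S`
are conjugate under `𝒜`, and the number of `S`-classes of Hall `π`-subgroups is a `π'`-number. -/
structure DB (π : Set ℕ) (S : Type*) [Group S] : Prop where
  dom : ∀ K : Subgroup S, PiN π (Nat.card K) → ∃ H : Subgroup S, IsPiHall π H ∧ K ≤ H
  out : ∃ 𝒜 : Subgroup (MulAut S), inn S ≤ 𝒜 ∧
    (∀ H K : Subgroup S, IsPiHall π H → IsPiHall π K → ∃ α ∈ 𝒜, K = H.map (α : S ≃* S).toMonoidHom) ∧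
    ∀ H : Subgroup S, IsPiHall π H → PiN' π (((stab H ⊓ 𝒜) ⊔ inn S).relIndex 𝒜)

/-- row for the inheritance by normal subgroups -/
def RowN (π : Set ℕ) (S : Type*) [Group S] : Prop := DB π S → IsCPiGroup π S

/-- row for the extension direction -/
def RowE (π : Set ℕ) (S : Type*) [Group S] : Prop :=
  Dom π S → ∀ P : Subgroup (MulAut S), PiN π (Nat.card P) → ∃ H : Subgroup S, IsPiHall π H ∧ P ≤ stab H

/-- family row: sufficient for `RowN` and `RowE` -/
def FamRow (π : Set ℕ) (S : Type*) [Group S] : Prop :=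
  DB π S → PiGrp π S ∨ (IsCPiGroup π S ∧ FHall π S)

theorem PiGrp.hall {π : Set ℕ} {S : Type*} [Group S] (h : PiGrp π S) : IsPiHall π (⊤ : Subgroup S) := by
  refine ⟨?_, ?_⟩
  · have h1 : PiN π (Nat.card (⊤ : Subgroup S)) := by rw [Subgroup.card_top]; exact h
    exact h1
  · intro p hp _ hd
    rw [Subgroup.index_top] at hd
    exact hp.one_lt.ne' (Nat.dvd_one.mp hd)

theorem PiGrp.cpi {π : Set ℕ} {S : Type*} [Group S] [Finite S] (h : PiGrp π S) : IsCPiGroup π S := by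
  have key : ∀ H : Subgroup S, IsPiHall π H → H = ⊤ := by
    intro H hH
    rw [← Subgroup.index_eq_one]
    refine eq_one_of_both (π := π) ?_ hH.2
    exact PiN.of_dvd h (Subgroup.index_dvd_card H)
  refine ⟨⟨⊤, h.hall⟩, fun H K hH hK => ⟨1, ?_⟩⟩
  rw [key H hH, key K hK]
  ext x
  simp

theorem FamRow.rowN {π : Set ℕ} {S : Type*} [Group S] [Finite S] (h : FamRow π S) : RowN π S := fun hDB =>
  (h hDB).elim PiGrp.cpi And.left

theorem Dom.pi_le {π : Set ℕ} {S : Type*} [Group S] [Finite S] (h : Dom π S) (K : Subgroup S)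
    (hK : PiN π (Nat.card K)) : ∃ H : Subgroup S, IsPiHall π H ∧ K ≤ H := by
  obtain ⟨L, hL, hdom⟩ := h
  obtain ⟨g, hg⟩ := hdom K hK
  exact ⟨_, isPiHall_smul hL g, hg⟩

/-- `D_π` gives `DB`. -/
theorem DB.of_dom {π : Set ℕ} {S : Type*} [Group S] [Finite S] (h : Dom π S) : DB π S := by
  refine ⟨Dom.pi_le h, inn S, le_rfl, ?_, ?_⟩
  · intro H K hH hK
    obtain ⟨g, hg⟩ := h.cpi.2 H K hH hK
    exact ⟨MulAut.conj g, ⟨g, rfl⟩, hg⟩
  · intro H _ p hp _ hd
    have h1 : ((stab H ⊓ inn S) ⊔ inn S).relIndex (inn S) = 1 := Subgroup.relIndex_eq_one.mpr le_sup_right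
    rw [h1] at hd
    exact hp.one_lt.ne' (Nat.dvd_one.mp hd)

/-- `DB` and `C_π` give `D_π`. -/
theorem DB.to_dom {π : Set ℕ} {S : Type*} [Group S] [Finite S] (h : DB π S) (hC : IsCPiGroup π S) : Dom π S := by
  obtain ⟨L, hL⟩ := hC.1
  refine ⟨L, hL, fun K hK => ?_⟩
  obtain ⟨H, hH, hKH⟩ := h.dom K hK
  obtain ⟨g, hg⟩ := hC.2 L H hL hH
  exact ⟨g, by rw [← conj_eq, ← hg]; exact hKH⟩

/-- `Out S` a `π`-group: `RowN`. -/
theorem rowN_of_out_pi {π : Set ℕ} {S : Type*} [Group S] [Finite S] (h : PiN π (inn S).index) : RowN π S := by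
  intro hDB
  obtain ⟨𝒜, h𝒜, htr, hidx⟩ := hDB.out
  obtain ⟨L, hL, -⟩ := hDB.dom ⊥ (by
    intro p hp hd
    rw [Subgroup.card_bot] at hd
    exact absurd (Nat.dvd_one.mp hd) hp.one_lt.ne')
  refine ⟨⟨L, hL⟩, fun H K hH hK => ?_⟩
  have h1 : ((stab H ⊓ 𝒜) ⊔ inn S).relIndex 𝒜 = 1 := by
    refine eq_one_of_both (π := π) (PiN.of_dvd h ?_) (hidx H hH)
    have h2 : ((stab H ⊓ 𝒜) ⊔ inn S).relIndex 𝒜 ∣ (inn S).relIndex 𝒜 :=
      Subgroup.relIndex_dvd_of_le_left 𝒜 le_sup_right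
    exact h2.trans (Subgroup.relIndex_dvd_index_of_normal _ _)
  obtain ⟨α, hα, hαK⟩ := htr H K hH hK
  have h3 : α ∈ ((stab H ⊓ 𝒜) ⊔ inn S : Subgroup (MulAut S)) := Subgroup.relIndex_eq_one.mp h1 hα
  rw [sup_comm, ← SetLike.mem_coe, Subgroup.normal_mul] at h3
  obtain ⟨_, ⟨s, rfl⟩, β, hβ, rfl⟩ := h3
  refine ⟨s, ?_⟩
  rw [hαK]
  have h4 : H.map ((MulAut.conj s * β : MulAut S) : S ≃* S).toMonoidHom =
      (H.map (β : S ≃* S).toMonoidHom).map (MulAut.conj s).toMonoidHom := by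
    rw [Subgroup.map_map]; rfl
  exact h4.trans (by rw [mem_stab.mp hβ.1])

end Cfsg.Agent.H571.RV
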