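import Cfsg.Agent.H571.RV.FHallD

/-!
# The main theorem for the class `DFw` and `rowE_of_fhall` (helper571)
-/

set_option autoImplicit false

namespace Cfsg.Agent.H571.RV

open Subgroup Cfsg Cfsg.Agent.H988.CPi Cfsg.Agent.H571.DExt Cfsg.Agent.Solvable.SZ
open scoped Pointwise

universe u

variable {π : Set ℕ} {r : ℕ}

theorem map_inf_mk {G : Type*} [Group G] (B X P : Subgroup G) [B.Normal] (hB : B ≤ X) :
    P.map (QuotientGroup.mk' B) ⊓ X.map (QuotientGroup.mk' B) = (P ⊓ X).map (QuotientGroup.mk' B) := by
  apply le_antisymm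
  · rintro _ ⟨⟨p, hp, rfl⟩, ⟨x, hx, hxp⟩⟩
    refine ⟨p, ⟨hp, ?_⟩, rfl⟩
    have h1 : x⁻¹ * p ∈ B := QuotientGroup.eq.mp hxp
    have h2 := X.mul_mem hx (hB h1)
    simpa using h2
  · exact map_inf_le _ _ _

theorem inter_hall_aux (hr : r.Prime) (n : ℕ) : ∀ (G : Type u) [Group G] [Finite G] (X : Subgroup G) [X.Normal]
    (H A : Subgroup G), Nat.card X = n → DFw π r X H A → ∀ P : Subgroup G, Maximal (IsPiSubgroup π) P →
    Group.IsSolvable P → PiN' π ((P ⊓ X).relIndex X) := by
  have := Fact.mk hr
  induction n using Nat.strong_induction_on with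
  | _ n ih =>
    intro G _ _ X hXn H A hn h P hP hsol
    set Q := P ⊓ X with hQ
    have hQX : Q ≤ X := inf_le_right
    have hQπ : PiN π (Nat.card Q) := PiN.of_dvd hP.1 (card_dvd_of_le inf_le_left)
    have hcor : PiN' π (Q.relIndex (normalizer (Q : Set G) ⊓ X)) :=
      piN'_normalizer_quot X hP (Group.isSolvable_of_surjective ((QuotientGroup.mk' X).subgroupMap_surjective P))
    -- conjugate
    obtain ⟨x, hx, hQx⟩ := h.dom Q hQX hQπ
    have h := h.conj hx
    generalize MulAut.conj x • H = H at h hQx
    generalize MulAut.conj x • A = A at h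
    have hQH : Q ≤ H := hQx
    have hPQ : P ≤ normalizer (Q : Set G) := by
      rw [le_normalizer_iff]
      intro g hg k hk
      exact ⟨P.mul_mem (P.mul_mem hg hk.1) (P.inv_mem hg), hXn.conj_mem k hk.2 g⟩
    set B := Q ⊓ A with hB
    -- the index of `B` in `Q` is a power of `r`
    have hBQ : ∀ p : ℕ, p.Prime → p ∣ B.relIndex Q → p = r := by
      intro p hp hd
      rw [hB, inf_relIndex_left] at hd
      have hn1 : (A.subgroupOf H).Normal := (normal_subgroupOf_iff_le_normalizer h.ale).mpr h.nor
      have h2 := relIndex_dvd_index_of_normal (A.subgroupOf H) (Q.subgroupOf H)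
      rw [relIndex_subgroupOf hQH] at h2
      exact h.idx p hp (hd.trans h2)
    have hrB : ¬ r ∣ Nat.card B := fun hd => h.rA (hd.trans (card_dvd_of_le inf_le_right))
    have hcB : Nat.card B * B.relIndex Q = Nat.card Q := by
      rw [← card_subgroupOf _ _ (inf_le_left : B ≤ Q)]; exact card_mul_index _
    by_cases hB1 : B = ⊥
    · -- `Q` is an `r`-group
      by_cases hQ1 : Q = ⊥
      · have h1 : normalizer (Q : Set G) = ⊤ := by rw [hQ1, normalizer_eq_top]
        rw [h1, top_inf_eq] at hcor
        exact hcor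
      · have hQr : IsPGroup r Q := by
          rw [IsPGroup.iff_card]
          refine ⟨_, Nat.eq_prime_pow_of_unique_prime_dvd Nat.card_pos.ne' fun {d} hd hdd => ?_⟩
          apply hBQ d hd
          rw [← hcB, hB1, card_bot, one_mul] at hdd
          rwa [hB1]
        have hrπ : r ∈ π := by
          obtain ⟨k, hk⟩ := IsPGroup.iff_card.mp hQr
          have hk0 : k ≠ 0 := by
            rintro rfl
            rw [pow_zero] at hk
            exact hQ1 (eq_bot_of_card_eq _ hk)
          exact hQπ r hr (hk ▸ dvd_pow_self r hk0)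
        exact DFw.inter_of_pgroup X h hrπ hP hsol hQH hQr hcor
    · -- pass to `N_G(B) / B`
      have hPB : P ≤ normalizer (B : Set G) := by
        rw [le_normalizer_iff]
        intro g hg b hb
        refine ⟨(le_normalizer_iff.mp hPQ) g hg b hb.1, ?_⟩
        -- the subgroup `B^g ≤ Q` has order prime to `r`
        have h1 : MulAut.conj g • B ≤ Q := by
          rintro _ ⟨y, hy, rfl⟩
          exact (le_normalizer_iff.mp hPQ) g hg y hy.1
        have h2 : MulAut.conj g • B ≤ A := h.le_A (h1.trans hQH) (by rw [card_conj_smul]; exact hrB)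
        exact h2 ⟨b, hb, rfl⟩
      obtain ⟨hAY, H', h'⟩ := h.norm hr (inf_le_right : B ≤ A)
      set Y := normalizer (B : Set G) ⊓ X with hY
      set M := normalizer (B : Set G) with hM
      have hYM : Y ≤ M := inf_le_left
      have hBM : B ≤ M := le_normalizer
      have hBX : B ≤ X := inf_le_left.trans hQX
      have hBY : B ≤ Y := le_inf hBM hBX
      have hQY : Q ≤ Y := le_inf (inf_le_left.trans hPB) hQX
      have hB'n : (B.subgroupOf M).Normal := (normal_subgroupOf_iff_le_normalizer hBM).mpr le_rfl
      set B' := B.subgroupOf M with hB'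
      have hYn : (Y.subgroupOf M).Normal := by
        have h1 : Y.subgroupOf M = X.subgroupOf M := by
          ext g
          exact ⟨fun hg => hg.2, fun hg => ⟨g.2, hg⟩⟩
        rw [h1]; infer_instance
      have hX'n : ((Y.subgroupOf M).map (QuotientGroup.mk' B')).Normal :=
        Normal.map hYn _ (QuotientGroup.mk'_surjective B')
      have hB'Y : B' ≤ Y.subgroupOf M := fun g hg => hBY hg
      have hB'P : B' ≤ P.subgroupOf M := fun g hg => (inf_le_left.trans inf_le_left : B ≤ P) hg
      have hDF := (h'.subgroupOf hYM).map_mk (B := B') (fun g hg => (inf_le_right : B ≤ A) hg)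
      have hBπ : PiN π (Nat.card B') := by
        rw [hB', card_subgroupOf _ _ hBM]
        exact hQπ.of_dvd (card_dvd_of_le inf_le_left)
      have hP' := (maximal_map_mk B' hBπ (maximal_subgroupOf hP hPB)).2
      have hsol' : Group.IsSolvable ((P.subgroupOf M).map (QuotientGroup.mk' B')) := by
        have h1 : Group.IsSolvable (P.subgroupOf M) :=
          Group.isSolvable_of_surjective (f := (subgroupOfEquivOfLe hPB).symm.toMonoidHom)
            (subgroupOfEquivOfLe hPB).symm.surjective
        exact Group.isSolvable_of_surjective ((QuotientGroup.mk' B').subgroupMap_surjective (P.subgroupOf M))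
      have hcard : Nat.card B' * Nat.card ((Y.subgroupOf M).map (QuotientGroup.mk' B')) = Nat.card (Y.subgroupOf M) := by
        rw [← card_comap_mk, comap_map_eq, QuotientGroup.ker_mk', sup_of_le_left hB'Y]
      have hlt : Nat.card ((Y.subgroupOf M).map (QuotientGroup.mk' B')) < n := by
        have h1 : Nat.card B' ≠ 1 := by
          rw [hB', card_subgroupOf _ _ hBM]
          exact fun h => hB1 (eq_bot_of_card_eq _ h)
        have h2 : 0 < Nat.card B' := Nat.card_pos
        have h3 : 0 < Nat.card ((Y.subgroupOf M).map (QuotientGroup.mk' B')) := Nat.card_pos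
        have h4 : Nat.card (Y.subgroupOf M) ≤ n := by
          rw [card_subgroupOf _ _ hYM, ← hn]
          exact Nat.le_of_dvd Nat.card_pos (card_dvd_of_le inf_le_right)
        have h5 : 2 ≤ Nat.card B' := by omega
        nlinarith
      have hfin := ih _ hlt _ _ _ _ rfl hDF _ hP' hsol'
      rw [map_inf_mk B' _ _ hB'Y, relIndex_map_map, QuotientGroup.ker_mk', sup_of_le_left hB'Y,
        sup_of_le_left (le_inf hB'P hB'Y)] at hfin
      have hfin2 : PiN' π (Q.relIndex Y) := by
        have h1 : (P.subgroupOf M ⊓ Y.subgroupOf M) = Q.subgroupOf M := by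
          ext g
          exact ⟨fun hg => ⟨hg.1, hg.2.2⟩, fun hg => ⟨hg.1, ⟨g.2, hg.2⟩⟩⟩
        rwa [h1, relIndex_subgroupOf hYM] at hfin
      have hcQ : Nat.card Q * Q.relIndex Y = Nat.card Y := by
        rw [← card_subgroupOf _ _ hQY]; exact card_mul_index _
      have hdvd : ∀ K : Subgroup G, K ≤ Y → PiN π (Nat.card K) → Nat.card K ∣ Nat.card Q := by
        intro K hK hKπ
        have h1 : Nat.card K ∣ Nat.card Q * Q.relIndex Y := by rw [hcQ]; exact card_dvd_of_le hK
        exact (hKπ.coprime hfin2).dvd_of_dvd_mul_right h1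
      -- `B = A`
      have hAB : B = A := by
        have hAπ : PiN π (Nat.card A) := h.pi.of_dvd (card_dvd_of_le h.ale)
        have h1 := hdvd A hAY hAπ
        rw [← hcB] at h1
        have h2 : (Nat.card A).Coprime (B.relIndex Q) := by
          refine Nat.coprime_of_dvd fun p hp h3 h4 => ?_
          exact h.rA ((hBQ p hp h4) ▸ h3)
        have h3 := h2.dvd_of_dvd_mul_right h1
        exact eq_of_le_of_card_ge inf_le_right (Nat.le_of_dvd Nat.card_pos h3)
      have hHY : H ≤ Y := by
        refine le_inf ?_ h.le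
        rw [hAB]
        exact h.nor
      have hHQ : Q = H := eq_of_le_of_card_ge hQH (Nat.le_of_dvd Nat.card_pos (hdvd H hHY h.pi))
      rw [hHQ]
      exact h.hall

/-- `X` normal in `G`, in the class `DFw`, `P` a solvable maximal `π`-subgroup of `G`: `P ∩ X` is a Hall subgroup of `X`. -/
theorem inter_hall_of_DF (hr : r.Prime) {G : Type u} [Group G] [Finite G] (X : Subgroup G) [X.Normal]
    {H A : Subgroup G} (h : DFw π r X H A) {P : Subgroup G} (hP : Maximal (IsPiSubgroup π) P)
    (hsol : Group.IsSolvable P) : PiN' π ((P ⊓ X).relIndex X) :=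
  inter_hall_aux hr _ G X H A rfl h P hP hsol

/-! ### From subgroups of `MulAut S` to `S` -/

section row

variable {S : Type u} [Group S] [Finite S]

omit [Finite S] in
/-- the solvability of `π`-subgroups of `Aut S` -/
theorem isSolvable_of_aut (hOut : Group.IsSolvable (MulAut S ⧸ inn S)) (P : Subgroup (MulAut S))
    (h : Group.IsSolvable (P ⊓ inn S : Subgroup (MulAut S))) : Group.IsSolvable P := by
  have h1 : Group.IsSolvable (P.map (QuotientGroup.mk' (inn S))) := inferInstance
  let f : P →* P.map (QuotientGroup.mk' (inn S)) := (QuotientGroup.mk' (inn S)).subgroupMap P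
  have hk : Group.IsSolvable f.ker := by
    have h2 : f.ker.map P.subtype ≤ P ⊓ inn S := by
      rintro _ ⟨p, hp, rfl⟩
      refine ⟨p.2, ?_⟩
      have h3 : QuotientGroup.mk' (inn S) (p : MulAut S) = 1 := congrArg Subtype.val (MonoidHom.mem_ker.mp hp)
      exact (QuotientGroup.eq_one_iff _).mp h3
    have h4 : Group.IsSolvable (f.ker.map P.subtype) :=
      Group.isSolvable_of_isSolvable_injective (Subgroup.inclusion_injective h2)
    exact Group.isSolvable_of_isSolvable_injective
      (f := (f.ker.equivMapOfInjective P.subtype P.subtype_injective).toMonoidHom)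
      (f.ker.equivMapOfInjective P.subtype P.subtype_injective).injective
  exact Group.isSolvable_of_ker_le_range f.ker.subtype f (by rw [Subgroup.range_subtype])

theorem DFw.solvable {G : Type u} [Group G] [Finite G] {X H A : Subgroup G} (h : DFw π r X H A) (hr : r.Prime) :
    Group.IsSolvable H := by
  have := Fact.mk hr
  have hn : (A.subgroupOf H).Normal := (normal_subgroupOf_iff_le_normalizer h.ale).mpr h.nor
  have h1 : Group.IsSolvable (A.subgroupOf H) := by
    have hcomm : ∀ a b : A.subgroupOf H, a * b = b * a := fun a b =>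
      Subtype.ext (Subtype.ext (h.ab _ a.2 _ b.2))
    let inst : CommGroup (A.subgroupOf H) := { (inferInstance : Group (A.subgroupOf H)) with mul_comm := hcomm }
    infer_instance
  have h2 : Group.IsSolvable (H ⧸ A.subgroupOf H) := by
    have h3 : IsPGroup r (H ⧸ A.subgroupOf H) := by
      rw [IsPGroup.iff_card]
      exact ⟨_, Nat.eq_prime_pow_of_unique_prime_dvd Nat.card_pos.ne' fun {d} hd hdd => h.idx d hd hdd⟩
    have h4 := h3.isNilpotent
    infer_instance
  exact (Group.isSolvable_iff_subgroup_quotient (A.subgroupOf H)).mpr ⟨h1, h2⟩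

omit [Finite S] in
theorem DFw.map_inj {G : Type u} [Group G] [Finite G] {H A : Subgroup S} (h : DFw π r ⊤ H A) (f : S →* G)
    (hf : Function.Injective f) : DFw π r f.range (H.map f) (A.map f) where
  le := map_le_range _ _
  pi := by rw [card_map_of_injective hf]; exact h.pi
  ale := map_mono h.ale
  nor := le_normalizer_map f h.nor
  ab := by
    rintro _ ⟨a, ha, rfl⟩ _ ⟨b, hb, rfl⟩
    rw [← map_mul, ← map_mul, h.ab a ha b hb]
  rA := by rw [card_map_of_injective hf]; exact h.rA
  idx := by
    intro p hp hd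
    rw [relIndex_map_map_of_injective _ _ hf] at hd
    exact h.idx p hp hd
  dom := by
    intro K hK hπ
    have h1 : (K.comap f).map f = K := by rw [map_comap_eq, inf_of_le_right hK]
    have h2 : PiN π (Nat.card (K.comap f)) := by
      rw [← card_map_of_injective hf, h1]; exact hπ
    obtain ⟨x, -, hle⟩ := h.dom (K.comap f) le_top h2
    refine ⟨f x, ⟨x, rfl⟩, ?_⟩
    rw [← h1]
    rintro _ ⟨k, hk, rfl⟩
    obtain ⟨y, hy, rfl⟩ := hle hk
    refine ⟨f y, ⟨y, hy, rfl⟩, ?_⟩
    show f x * f y * (f x)⁻¹ = f (x * y * x⁻¹)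
    rw [map_mul, map_mul, map_inv]

omit [Finite S] in
theorem conj_injective (hc : Subgroup.center S = ⊥) : Function.Injective (MulAut.conj : S →* MulAut S) := by
  rw [← MonoidHom.ker_eq_bot_iff, eq_bot_iff, ← hc]
  intro s hs
  rw [Subgroup.mem_center_iff]
  intro g
  have h1 := DFunLike.congr_fun (MonoidHom.mem_ker.mp hs) g
  rw [MulAut.conj_apply, MulAut.one_apply] at h1
  have h2 := congrArg (· * s) h1
  simpa using h2.symm

/-- A maximal `π`-subgroup `P` of `Aut S` with `P ∩ Inn S` Hall in `Inn S` gives the conclusion of `RowE`. -/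
theorem exists_stab (hc : Subgroup.center S = ⊥) {P P₀ : Subgroup (MulAut S)} (hP : PiN π (Nat.card P)) (hle : P₀ ≤ P)
    (h : PiN' π ((P ⊓ inn S).relIndex (inn S))) : ∃ H : Subgroup S, IsPiHall π H ∧ P₀ ≤ stab H := by
  set f : S →* MulAut S := MulAut.conj with hf
  have hinj : Function.Injective f := conj_injective hc
  have hmap : (P.comap f).map f = P ⊓ inn S := by rw [map_comap_eq, inf_comm]; rfl
  refine ⟨P.comap f, ⟨?_, ?_⟩, ?_⟩
  · have h1 : PiN π (Nat.card (P.comap f)) := by
      rw [← card_map_of_injective hinj, hmap]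
      exact hP.of_dvd (card_dvd_of_le inf_le_left)
    exact h1
  · have h1 : PiN' π (P.comap f).index := by
      rw [← relIndex_top_right, ← relIndex_map_map_of_injective _ _ hinj, hmap]
      have h2 : (⊤ : Subgroup S).map f = inn S := (MonoidHom.range_eq_map f).symm
      rw [h2]; exact h
    exact h1
  · intro α hα
    rw [mem_stab]
    apply eq_of_le_of_card_ge
    · rintro _ ⟨s, hs, rfl⟩
      show f (α s) ∈ P
      have h1 : f (α s) = α * f s * α⁻¹ := by
        ext x
        simp [hf, MulAut.mul_apply]
      rw [h1]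
      exact P.mul_mem (P.mul_mem (hle hα) hs) (P.inv_mem (hle hα))
    · rw [card_map_of_injective (α : S ≃* S).injective]

/-- **RowE from FHall.** -/
theorem rowE_of_fhall (hc : Subgroup.center S = ⊥) (hOut : Group.IsSolvable (MulAut S ⧸ inn S))
    (h : Dom π S → FHall π S) : RowE π S := by
  intro hD P₀ hP₀
  obtain ⟨r, hr, H, A, hDF⟩ := DFw.of_FHall hD (h hD)
  have hDF' : DFw π r (inn S) (H.map (MulAut.conj : S →* MulAut S)) (A.map (MulAut.conj : S →* MulAut S)) :=
    hDF.map_inj _ (conj_injective hc)
  obtain ⟨P, hle, hP⟩ := Finite.exists_le_maximal (p := IsPiSubgroup π) (a := P₀) hP₀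
  have hsol : Group.IsSolvable P := by
    apply isSolvable_of_aut hOut
    obtain ⟨x, hx, hPx⟩ := hDF'.dom (P ⊓ inn S) inf_le_right (PiN.of_dvd hP.1 (card_dvd_of_le inf_le_left))
    have h1 := (hDF'.conj hx).solvable hr
    exact Group.isSolvable_of_isSolvable_injective (Subgroup.inclusion_injective hPx)
  exact exists_stab hc hP.1 hle (inter_hall_of_DF hr (inn S) hDF' hP hsol)

end row

end Cfsg.Agent.H571.RV
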