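import Cfsg.Agent.H571.RV.Pred

/-!
# `RowE` from `FHall` (helper571)

`DF π r X` : relative form of `FHall` together with domination. `inter_hall_of_DF` : `X` normal in `G`, `DF π r X`, `P` a maximal
`π`-subgroup of `G` with `PX/X` solvable: `P ∩ X` is a Hall subgroup of `X`.
-/

set_option autoImplicit false

namespace Cfsg.Agent.H571.RV

open Subgroup Cfsg Cfsg.Agent.H988.CPi Cfsg.Agent.H571.DExt Cfsg.Agent.Solvable.SZ
open scoped Pointwise

universe u

variable {π : Set ℕ} {r : ℕ} {G : Type u} [Group G]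

/-- relative form of `FHall` with domination, with witnesses -/
structure DFw (π : Set ℕ) (r : ℕ) (X H A : Subgroup G) : Prop where
  le : H ≤ X
  pi : PiN π (Nat.card H)
  ale : A ≤ H
  nor : H ≤ normalizer (A : Set G)
  ab : ∀ a ∈ A, ∀ b ∈ A, a * b = b * a
  rA : ¬ r ∣ Nat.card A
  idx : ∀ p : ℕ, p.Prime → p ∣ A.relIndex H → p = r
  dom : ∀ K ≤ X, PiN π (Nat.card K) → ∃ x ∈ X, K ≤ MulAut.conj x • H

variable [Finite G]

theorem DFw.conj {X H A : Subgroup G} (h : DFw π r X H A) {x : G} (hx : x ∈ X) :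
    DFw π r X (MulAut.conj x • H) (MulAut.conj x • A) where
  le := by
    rintro _ ⟨y, hy, rfl⟩
    exact X.mul_mem (X.mul_mem hx (h.le hy)) (X.inv_mem hx)
  pi := by rw [card_conj_smul]; exact h.pi
  ale := smul_mono_right _ h.ale
  nor := by
    rw [le_normalizer_iff]
    rintro _ ⟨y, hy, rfl⟩ _ ⟨a, ha, rfl⟩
    refine ⟨y * a * y⁻¹, (le_normalizer_iff.mp h.nor) y hy a ha, ?_⟩
    simp
  ab := by
    rintro _ ⟨a, ha, rfl⟩ _ ⟨b, hb, rfl⟩
    show MulAut.conj x a * MulAut.conj x b = MulAut.conj x b * MulAut.conj x a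
    rw [← map_mul, ← map_mul, h.ab a ha b hb]
  rA := by rw [card_conj_smul]; exact h.rA
  idx := by
    intro p hp hd
    rw [← conj_eq, ← conj_eq, relIndex_map_map_of_injective _ _ (MulAut.conj x).injective] at hd
    exact h.idx p hp hd
  dom := by
    intro K hK hπ
    obtain ⟨y, hy, hKy⟩ := h.dom K hK hπ
    refine ⟨y * x⁻¹, X.mul_mem hy (X.inv_mem hx), ?_⟩
    rwa [← mul_smul, ← map_mul, inv_mul_cancel_right]

omit [Finite G] in
/-- `K ≤ H` of order prime to `r` lies in `A` -/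
theorem DFw.le_A {X H A : Subgroup G} (h : DFw π r X H A) {K : Subgroup G} (hK : K ≤ H) (hr : ¬ r ∣ Nat.card K) :
    K ≤ A := by
  rw [← relIndex_eq_one]
  by_contra hne
  obtain ⟨p, hp, hd⟩ := Nat.exists_prime_and_dvd hne
  have h1 : A.relIndex K ∣ A.relIndex H := by
    have hn : (A.subgroupOf H).Normal := (normal_subgroupOf_iff_le_normalizer h.ale).mpr h.nor
    have h2 := relIndex_dvd_index_of_normal (A.subgroupOf H) (K.subgroupOf H)
    rwa [relIndex_subgroupOf hK] at h2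
  have h2 : p = r := h.idx p hp (hd.trans h1)
  have h3 : p ∣ Nat.card K := hd.trans (relIndex_dvd_card A K)
  rw [h2] at h3
  exact hr h3

/-- `H` is a Hall subgroup of `X` -/
theorem DFw.hall {X H A : Subgroup G} (h : DFw π r X H A) : PiN' π (H.relIndex X) := by
  intro p hp hpπ hd
  have := Fact.mk hp
  obtain ⟨P⟩ : Nonempty (Sylow p X) := inferInstance
  have hPc : Nat.card ((P : Subgroup X).map X.subtype) = Nat.card (P : Subgroup X) :=
    card_map_of_injective X.subtype_injective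
  have hPπ : PiN π (Nat.card ((P : Subgroup X).map X.subtype)) := by
    intro q hq hqd
    rw [hPc] at hqd
    obtain ⟨k, hk⟩ := IsPGroup.iff_card.mp P.isPGroup'
    rw [hk] at hqd
    rwa [(Nat.prime_dvd_prime_iff_eq hq hp).mp (hq.dvd_of_dvd_pow hqd)]
  obtain ⟨x, hx, hle⟩ := h.dom _ (map_subtype_le _) hPπ
  have h1 : Nat.card (P : Subgroup X) ∣ Nat.card H := by
    rw [← hPc]
    have h0 := card_dvd_of_le hle
    rwa [card_conj_smul] at h0
  have h2 : Nat.card H * H.relIndex X = Nat.card X := by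
    rw [← card_subgroupOf _ _ h.le]; exact card_mul_index _
  have h3 : Nat.card (P : Subgroup X) * (P : Subgroup X).index = Nat.card X := card_mul_index _
  obtain ⟨m, hm⟩ := h1
  rw [hm, mul_assoc] at h2
  have h4 := Nat.eq_of_mul_eq_mul_left Nat.card_pos (h2.trans h3.symm)
  exact P.not_dvd_index (h4 ▸ hd.mul_left m)

theorem DFw.of_FHall {S : Type u} [Group S] [Finite S] (hD : Dom π S) (h : FHall π S) :
    ∃ r : ℕ, r.Prime ∧ ∃ H A : Subgroup S, DFw π r ⊤ H A := by
  obtain ⟨r, hr, H, A, hH, hA, hn, hab, hrA, hidx⟩ := h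
  refine ⟨r, hr, H, A, le_top, hH.1, hA, hn, hab, hrA, hidx, fun K _ hK => ?_⟩
  have hC := hD.cpi
  obtain ⟨L, hL, hdom⟩ := hD
  obtain ⟨g, hg⟩ := hdom K hK
  obtain ⟨x, hx⟩ := hC.2 H L hH hL
  refine ⟨g * x, mem_top _, ?_⟩
  rw [map_mul, mul_smul, ← conj_eq x H, ← hx]
  exact hg

end Cfsg.Agent.H571.RV
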