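import Cfsg.Agent.H571.RV.FHall

/-!
# `DFw` for normalisers (helper571)
-/

set_option autoImplicit false

namespace Cfsg.Agent.H571.RV

open Subgroup Cfsg Cfsg.Agent.H988.CPi Cfsg.Agent.H571.DExt Cfsg.Agent.Solvable.SZ
open scoped Pointwise

universe u

variable {π : Set ℕ} {r : ℕ} {G : Type u} [Group G] [Finite G]

theorem DFw.idx_le {X H A : Subgroup G} (h : DFw π r X H A) {Y : Subgroup G} (hAY : A ≤ Y) (hYX : Y ≤ X) {p : ℕ}
    (hp : p.Prime) (hpπ : p ∈ π) (hd : p ∣ A.relIndex Y) : p = r := by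
  have h1 : A.relIndex Y ∣ A.relIndex X := ⟨_, (relIndex_mul_relIndex A Y X hAY hYX).symm⟩
  rw [← relIndex_mul_relIndex A H X h.ale h.le] at h1
  rcases hp.dvd_mul.mp (hd.trans h1) with h2 | h2
  · exact h.idx p hp h2
  · exact absurd h2 (h.hall p hp hpπ)

/-- Hall subgroup of `N_Y(A)` -/
theorem DFw.norm_aux {X H A : Subgroup G} (h : DFw π r X H A) (hr : r.Prime) {N : Subgroup G} (hAN : A ≤ N)
    (hNX : N ≤ X) (hN : N ≤ normalizer (A : Set G)) :
    ∃ H' : Subgroup G, H' ≤ N ∧ A ≤ H' ∧ PiN π (Nat.card H') ∧ (∀ p : ℕ, p.Prime → p ∣ A.relIndex H' → p = r) ∧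
      ∀ K ≤ N, PiN π (Nat.card K) → ∃ n ∈ N, K ≤ MulAut.conj n • H' := by
  classical
  have := Fact.mk hr
  set A' := A.subgroupOf N with hA'
  have hn : A'.Normal := (normal_subgroupOf_iff_le_normalizer hAN).mpr hN
  have hcA : Nat.card A' = Nat.card A := card_subgroupOf _ _ hAN
  have hq : ∀ p : ℕ, p.Prime → p ∈ π → p ∣ Nat.card (N ⧸ A') → p = r := fun p hp hpπ hd =>
    h.idx_le hAN hNX hp hpπ hd
  have hAπ : PiN π (Nat.card A) := h.pi.of_dvd (card_dvd_of_le h.ale)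
  -- `π`-subgroups of the quotient are `r`-groups
  have hrq : ∀ K : Subgroup N, PiN π (Nat.card K) → ∀ p : ℕ, p.Prime →
      p ∣ Nat.card (K.map (QuotientGroup.mk' A')) → p = r ∧ r ∈ π := by
    intro K hK p hp hd
    have h1 : p ∈ π := hK p hp (hd.trans (card_map_dvd _ _))
    have h2 : p = r := hq p hp h1 (hd.trans (card_subgroup_dvd_card _))
    exact ⟨h2, h2 ▸ h1⟩
  obtain ⟨S⟩ : Nonempty (Sylow r (N ⧸ A')) := inferInstance
  by_cases hrπ : r ∈ π
  · set H₁ := (S : Subgroup (N ⧸ A')).comap (QuotientGroup.mk' A') with hH₁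
    have hc1 : Nat.card H₁ = Nat.card A' * Nat.card (S : Subgroup (N ⧸ A')) := card_comap_mk A' _
    have hSr : ∀ p : ℕ, p.Prime → p ∣ Nat.card (S : Subgroup (N ⧸ A')) → p = r := by
      intro p hp hd
      obtain ⟨k, hk⟩ := IsPGroup.iff_card.mp S.isPGroup'
      rw [hk] at hd
      exact (Nat.prime_dvd_prime_iff_eq hp hr).mp (hp.dvd_of_dvd_pow hd)
    have hle1 : A' ≤ H₁ := by
      intro x hx
      show (QuotientGroup.mk' A') x ∈ S
      rw [show (QuotientGroup.mk' A') x = 1 from (QuotientGroup.eq_one_iff x).mpr hx]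
      exact one_mem _
    have hAH : A ≤ H₁.map N.subtype := by
      intro x hx
      exact ⟨⟨x, hAN hx⟩, hle1 hx, rfl⟩
    have hcH : Nat.card (H₁.map N.subtype) = Nat.card H₁ := card_map_of_injective N.subtype_injective
    refine ⟨H₁.map N.subtype, map_subtype_le _, hAH, ?_, ?_, ?_⟩
    · rw [hcH, hc1, hcA]
      exact hAπ.mul fun p hp hd => hSr p hp hd ▸ hrπ
    · intro p hp hd
      have h2 : Nat.card A * A.relIndex (H₁.map N.subtype) = Nat.card (H₁.map N.subtype) := by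
        rw [← card_subgroupOf _ _ hAH]; exact card_mul_index _
      rw [hcH, hc1, hcA] at h2
      have h3 := Nat.eq_of_mul_eq_mul_left Nat.card_pos h2
      rw [h3] at hd
      exact hSr p hp hd
    · intro K hKN hK
      have hK' : PiN π (Nat.card (K.subgroupOf N)) := by rw [card_subgroupOf _ _ hKN]; exact hK
      have hKr : IsPGroup r ((K.subgroupOf N).map (QuotientGroup.mk' A')) := by
        rw [IsPGroup.iff_card]
        obtain ⟨k, hk⟩ : ∃ k, Nat.card ((K.subgroupOf N).map (QuotientGroup.mk' A')) = r ^ k := by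
          refine ⟨_, Nat.eq_prime_pow_of_unique_prime_dvd Nat.card_pos.ne' fun {d} hd hdd => ?_⟩
          exact (hrq _ hK' d hd hdd).1
        exact ⟨k, hk⟩
      obtain ⟨T, hT⟩ := hKr.exists_le_sylow
      obtain ⟨g, hg⟩ := MulAction.exists_smul_eq (N ⧸ A') S T
      obtain ⟨n, rfl⟩ := QuotientGroup.mk_surjective g
      refine ⟨n, n.2, fun x hx => ?_⟩
      have h1 : (QuotientGroup.mk' A') ⟨x, hKN hx⟩ ∈ (T : Subgroup (N ⧸ A')) := hT ⟨⟨x, hKN hx⟩, hx, rfl⟩
      rw [← hg] at h1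
      obtain ⟨y, hy, hy'⟩ := h1
      have hy2 : (QuotientGroup.mk n : N ⧸ A') * y * (QuotientGroup.mk n)⁻¹ = (QuotientGroup.mk' A') ⟨x, hKN hx⟩ := hy'
      have h2 : (QuotientGroup.mk' A') (n⁻¹ * ⟨x, hKN hx⟩ * n) = y := by
        rw [map_mul, map_mul, ← hy2, map_inv]
        show (QuotientGroup.mk n : N ⧸ A')⁻¹ * (QuotientGroup.mk n * y * (QuotientGroup.mk n)⁻¹) * QuotientGroup.mk n = y
        group
      refine ⟨(n : G)⁻¹ * x * n, ⟨n⁻¹ * ⟨x, hKN hx⟩ * n, ?_, rfl⟩, ?_⟩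
      · show (QuotientGroup.mk' A') (n⁻¹ * ⟨x, hKN hx⟩ * n) ∈ S
        rw [h2]; exact hy
      · show (n : G) * ((n : G)⁻¹ * x * n) * (n : G)⁻¹ = x
        group
  · refine ⟨A, hAN, le_rfl, hAπ, ?_, ?_⟩
    · intro p hp hd
      rw [relIndex_self] at hd
      exact absurd (Nat.dvd_one.mp hd) hp.one_lt.ne'
    · intro K hKN hK
      have hK' : PiN π (Nat.card (K.subgroupOf N)) := by rw [card_subgroupOf _ _ hKN]; exact hK
      have h1 : Nat.card ((K.subgroupOf N).map (QuotientGroup.mk' A')) = 1 := by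
        by_contra hne
        obtain ⟨p, hp, hd⟩ := Nat.exists_prime_and_dvd hne
        exact hrπ (hrq _ hK' p hp hd).2
      have h2 := eq_bot_of_card_eq _ h1
      refine ⟨1, N.one_mem, ?_⟩
      rw [map_one, one_smul]
      intro x hx
      have h3 : (QuotientGroup.mk' A') ⟨x, hKN hx⟩ ∈ (K.subgroupOf N).map (QuotientGroup.mk' A') :=
        ⟨⟨x, hKN hx⟩, hx, rfl⟩
      rw [h2, mem_bot] at h3
      exact (QuotientGroup.eq_one_iff (⟨x, hKN hx⟩ : N)).mp h3

/-- `N_X(B)`, `B ≤ A` -/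
theorem DFw.norm {X H A B : Subgroup G} (h : DFw π r X H A) (hr : r.Prime) (hB : B ≤ A) :
    A ≤ normalizer (B : Set G) ⊓ X ∧ ∃ H' : Subgroup G, DFw π r (normalizer (B : Set G) ⊓ X) H' A := by
  set Y := normalizer (B : Set G) ⊓ X with hY
  have key : ∀ A₁ : Subgroup G, A₁ ≤ X → (∀ a ∈ A₁, ∀ b ∈ A₁, a * b = b * a) → B ≤ A₁ → A₁ ≤ Y := by
    intro A₁ h1 h2 h3
    refine le_inf ?_ h1
    rw [le_normalizer_iff]
    intro a ha b hb
    rw [h2 a ha b (h3 hb), mul_inv_cancel_right]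
    exact hb
  have hAY : A ≤ Y := key A (h.ale.trans h.le) h.ab hB
  refine ⟨hAY, ?_⟩
  set N := normalizer (A : Set G) ⊓ Y with hN
  obtain ⟨H', hH'N, hAH', hH'π, hidx, hdomN⟩ := h.norm_aux hr (N := N) (le_inf le_normalizer hAY)
    (inf_le_right.trans inf_le_right) inf_le_left
  have hrB : ¬ r ∣ Nat.card B := fun hd => h.rA (hd.trans (card_dvd_of_le hB))
  have hBπ : PiN π (Nat.card B) := h.pi.of_dvd (card_dvd_of_le (hB.trans h.ale))
  refine ⟨H', hH'N.trans inf_le_right, hH'π, hAH', hH'N.trans inf_le_left, h.ab, h.rA, hidx, ?_⟩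
  intro K hKY hK
  have hKB : K ⊔ B ≤ X := sup_le (hKY.trans inf_le_right) (hB.trans (h.ale.trans h.le))
  obtain ⟨x, hx, hle⟩ := h.dom (K ⊔ B) hKB (piN_sup (hKY.trans inf_le_left) hK hBπ)
  have h' := h.conj hx
  have hBA : B ≤ MulAut.conj x • A := h'.le_A (le_sup_right.trans hle) hrB
  have hA'Y : MulAut.conj x • A ≤ Y := key _ (h'.ale.trans h'.le) h'.ab hBA
  -- Wielandt in `Y`
  have hnil : Group.IsNilpotent (A.subgroupOf Y) := by
    have hcomm : ∀ a b : A.subgroupOf Y, a * b = b * a := fun a b =>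
      Subtype.ext (Subtype.ext (h.ab _ a.2 _ b.2))
    let inst : CommGroup (A.subgroupOf Y) := { (inferInstance : Group (A.subgroupOf Y)) with mul_comm := hcomm }
    exact CommGroup.isNilpotent
  have hcop : (Nat.card (A.subgroupOf Y)).Coprime (A.subgroupOf Y).index := by
    rw [card_subgroupOf _ _ hAY]
    refine Nat.coprime_of_dvd fun p hp h1 h2 => ?_
    have h3 : p = r := h.idx_le hAY inf_le_right hp (h.pi p hp (h1.trans (card_dvd_of_le h.ale))) h2
    exact h.rA (h3 ▸ h1)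
  obtain ⟨y, hy⟩ := Cfsg.Agent.S0581.result (A.subgroupOf Y) ((MulAut.conj x • A).subgroupOf Y) hnil hcop (by
    intro p hp hd
    rw [card_subgroupOf _ _ hA'Y, card_conj_smul] at hd
    rwa [card_subgroupOf _ _ hAY])
  have h1 : MulAut.conj x • A = MulAut.conj (y : G) • A := by
    apply eq_of_le_of_card_ge
    · intro a ha
      obtain ⟨b, hb, hb'⟩ := hy (show (⟨a, hA'Y ha⟩ : Y) ∈ (MulAut.conj x • A).subgroupOf Y from ha)
      exact ⟨b, hb, congrArg Subtype.val hb'⟩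
    · rw [card_conj_smul, card_conj_smul]
  have h2 : MulAut.conj (y : G)⁻¹ • K ≤ N := by
    rintro _ ⟨k, hk, rfl⟩
    have hk1 : k ∈ normalizer ((MulAut.conj x • A : Subgroup G) : Set G) := h'.nor (hle (mem_sup_left hk))
    refine ⟨?_, Y.mul_mem (Y.mul_mem (Y.inv_mem y.2) (hKY hk)) (Y.inv_mem (Y.inv_mem y.2))⟩
    rw [h1] at hk1
    have h3 : ∀ z ∈ normalizer ((MulAut.conj (y : G) • A : Subgroup G) : Set G),
        ∀ a ∈ A, (MulAut.conj (y : G)⁻¹ z) * a * (MulAut.conj (y : G)⁻¹ z)⁻¹ ∈ A := by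
      intro z hz a ha
      have h4 := (mem_normalizer_iff.mp hz (MulAut.conj (y : G) a)).mp ⟨a, ha, rfl⟩
      obtain ⟨b, hb, hb'⟩ := h4
      have h5 : MulAut.conj (y : G) b = z * (MulAut.conj (y : G) a) * z⁻¹ := hb'
      have h6 : b = (MulAut.conj (y : G)⁻¹ z) * a * (MulAut.conj (y : G)⁻¹ z)⁻¹ := by
        have h7 := congrArg (MulAut.conj (y : G)⁻¹) h5
        simp only [MulAut.conj_apply, inv_inv] at h7 ⊢
        have h8 : (y : G)⁻¹ * ((y : G) * b * (y : G)⁻¹) * y = b := by group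
        rw [h8] at h7
        rw [h7]; group
      rw [← h6]; exact hb
    show MulAut.conj (y : G)⁻¹ k ∈ normalizer (A : Set G)
    have hsub : Subgroup.zpowers (MulAut.conj (y : G)⁻¹ k) ≤ normalizer (A : Set G) := by
      rw [le_normalizer_iff]
      rintro _ ⟨m, rfl⟩ a ha
      have h9 := h3 (k ^ m) (Subgroup.zpow_mem _ hk1 m) a ha
      rwa [map_zpow] at h9
    exact hsub (mem_zpowers _)
  obtain ⟨n, hn, hle2⟩ := hdomN _ h2 (by rw [card_conj_smul]; exact hK)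
  refine ⟨(y : G) * n, Y.mul_mem y.2 hn.2, ?_⟩
  rw [map_mul, mul_smul]
  have h10 := smul_mono_right (MulAut.conj (y : G)) hle2
  rwa [← mul_smul, ← map_mul, mul_inv_cancel, map_one, one_smul] at h10

end Cfsg.Agent.H571.RV
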