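import Cfsg.Agent.H571.RV.FHallB

/-!
# `DFw` in subgroups and quotients (helper571)
-/

set_option autoImplicit false

namespace Cfsg.Agent.H571.RV

open Subgroup Cfsg Cfsg.Agent.H988.CPi Cfsg.Agent.H571.DExt Cfsg.Agent.Solvable.SZ
open scoped Pointwise

universe u

variable {π : Set ℕ} {r : ℕ} {G : Type u} [Group G] [Finite G]

omit [Finite G] in
theorem le_normalizer_subgroupOf {M H A : Subgroup G} (h : H ≤ normalizer (A : Set G)) :
    H.subgroupOf M ≤ normalizer ((A.subgroupOf M : Subgroup M) : Set M) := by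
  rw [le_normalizer_iff]
  intro x hx a ha
  exact (le_normalizer_iff.mp h) x hx a ha

omit [Finite G] in
theorem le_normalizer_map {G' : Type*} [Group G'] (f : G →* G') {H A : Subgroup G} (h : H ≤ normalizer (A : Set G)) :
    H.map f ≤ normalizer ((A.map f : Subgroup G') : Set G') := by
  rw [le_normalizer_iff]
  rintro _ ⟨x, hx, rfl⟩ _ ⟨a, ha, rfl⟩
  exact ⟨x * a * x⁻¹, (le_normalizer_iff.mp h) x hx a ha, by rw [map_mul, map_mul, map_inv]⟩

omit [Finite G] in
theorem DFw.subgroupOf {X H A : Subgroup G} (h : DFw π r X H A) {M : Subgroup G} (hX : X ≤ M) :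
    DFw π r (X.subgroupOf M) (H.subgroupOf M) (A.subgroupOf M) where
  le := fun x hx => h.le hx
  pi := by rw [card_subgroupOf _ _ (h.le.trans hX)]; exact h.pi
  ale := fun x hx => h.ale hx
  nor := le_normalizer_subgroupOf h.nor
  ab := fun a ha b hb => Subtype.ext (h.ab a ha b hb)
  rA := by rw [card_subgroupOf _ _ (h.ale.trans (h.le.trans hX))]; exact h.rA
  idx := by
    intro p hp hd
    rw [relIndex_subgroupOf (h.le.trans hX)] at hd
    exact h.idx p hp hd
  dom := by
    intro K hK hπ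
    have h1 : K.map M.subtype ≤ X := by
      rintro _ ⟨k, hk, rfl⟩
      exact hK hk
    obtain ⟨x, hx, hle⟩ := h.dom (K.map M.subtype) h1 (by rw [card_map_of_injective M.subtype_injective]; exact hπ)
    refine ⟨⟨x, hX hx⟩, hx, fun k hk => ?_⟩
    obtain ⟨y, hy, hy'⟩ := hle ⟨k, hk, rfl⟩
    have hyM : y ∈ M := hX (h.le hy)
    exact ⟨⟨y, hyM⟩, hy, Subtype.ext hy'⟩

theorem DFw.map_mk {X H A : Subgroup G} (h : DFw π r X H A) {B : Subgroup G} [B.Normal] (hB : B ≤ A) :
    DFw π r (X.map (QuotientGroup.mk' B)) (H.map (QuotientGroup.mk' B)) (A.map (QuotientGroup.mk' B)) where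
  le := map_mono h.le
  pi := PiN.of_dvd h.pi (card_map_dvd _ _)
  ale := map_mono h.ale
  nor := le_normalizer_map _ h.nor
  ab := by
    rintro _ ⟨a, ha, rfl⟩ _ ⟨b, hb, rfl⟩
    rw [← map_mul, ← map_mul, h.ab a ha b hb]
  rA := fun hd => h.rA (hd.trans (card_map_dvd _ _))
  idx := by
    intro p hp hd
    rw [relIndex_map_map, QuotientGroup.ker_mk', sup_of_le_left hB, sup_of_le_left (hB.trans h.ale)] at hd
    exact h.idx p hp hd
  dom := by
    intro K hK hπ
    have hBX : B ≤ X := hB.trans (h.ale.trans h.le)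
    have h1 : K.comap (QuotientGroup.mk' B) ≤ X := by
      have h2 := comap_mono (f := QuotientGroup.mk' B) hK
      rwa [comap_map_eq, QuotientGroup.ker_mk', sup_of_le_left hBX] at h2
    have h2 : PiN π (Nat.card (K.comap (QuotientGroup.mk' B))) := by
      rw [card_comap_mk]
      exact (h.pi.of_dvd (card_dvd_of_le (hB.trans h.ale))).mul hπ
    obtain ⟨x, hx, hle⟩ := h.dom _ h1 h2
    refine ⟨QuotientGroup.mk' B x, ⟨x, hx, rfl⟩, ?_⟩
    rw [← map_comap_eq_self_of_surjective (QuotientGroup.mk'_surjective B) K]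
    rintro _ ⟨k, hk, rfl⟩
    obtain ⟨y, hy, rfl⟩ := hle hk
    refine ⟨QuotientGroup.mk' B y, ⟨y, hy, rfl⟩, ?_⟩
    show QuotientGroup.mk' B x * QuotientGroup.mk' B y * (QuotientGroup.mk' B x)⁻¹ = QuotientGroup.mk' B (x * y * x⁻¹)
    rw [map_mul, map_mul, map_inv]

end Cfsg.Agent.H571.RV
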