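import Cfsg.Agent.H571.DExtC

/-!
# Fixed points of maximal `π`-subgroups on sets of subgroups (helper571)

`exists_fixed` : `X` normal in `G`, `P` a solvable `π`-subgroup, `Q = P ∩ X`, `N = N_X(Q)`, `N/Q` a `π'`-group; a set `Ω` of
subgroups, invariant under `P` and `N`, each member normalised by `Q`, `N` transitive on `Ω`: some member of `Ω` is normalised
by `P` (Glauberman).
-/

set_option autoImplicit false

namespace Cfsg.Agent.H571.RV

open Subgroup Cfsg Cfsg.Agent.H988.CPi Cfsg.Agent.H571.DExt Cfsg.Agent.Solvable.SZ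
open scoped Pointwise

variable {π : Set ℕ} {G : Type*} [Group G] [Finite G]

theorem exists_fixed (X : Subgroup G) [hXn : X.Normal] {P : Subgroup G} (hPπ : PiN π (Nat.card P))
    (hsol : Group.IsSolvable P)
    (hcor : PiN' π ((P ⊓ X).relIndex (normalizer ((P ⊓ X : Subgroup G) : Set G) ⊓ X)))
    (Ω : Set (Subgroup G)) (hne : Ω.Nonempty)
    (hPΩ : ∀ p ∈ P, ∀ H ∈ Ω, MulAut.conj p • H ∈ Ω)
    (hNΩ : ∀ n ∈ normalizer ((P ⊓ X : Subgroup G) : Set G) ⊓ X, ∀ H ∈ Ω, MulAut.conj n • H ∈ Ω)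
    (hQΩ : ∀ q ∈ P ⊓ X, ∀ H ∈ Ω, MulAut.conj q • H = H)
    (htr : ∀ H₁ ∈ Ω, ∀ H₂ ∈ Ω, ∃ n ∈ normalizer ((P ⊓ X : Subgroup G) : Set G) ⊓ X, MulAut.conj n • H₁ = H₂) :
    ∃ H ∈ Ω, ∀ p ∈ P, MulAut.conj p • H = H := by
  set Q := P ⊓ X with hQ
  set N := normalizer (Q : Set G) ⊓ X with hN
  have hQN : Q ≤ N := le_inf le_normalizer inf_le_right
  have hQ'n : (Q.subgroupOf N).Normal := (normal_subgroupOf_iff_le_normalizer hQN).mpr inf_le_left
  set Q' := Q.subgroupOf N with hQ'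
  have hPQ : P ≤ normalizer (Q : Set G) := by
    rw [le_normalizer_iff]
    intro h hh k hk
    exact ⟨P.mul_mem (P.mul_mem hh hk.1) (P.inv_mem hh), hXn.conj_mem k hk.2 h⟩
  have hact : ∀ p ∈ P, ∀ x ∈ N, p * x * p⁻¹ ∈ N := fun p hp x hx =>
    ⟨(normalizer (Q : Set G)).mul_mem ((normalizer (Q : Set G)).mul_mem (hPQ hp) hx.1)
      ((normalizer (Q : Set G)).inv_mem (hPQ hp)), hXn.conj_mem x hx.2 p⟩
  let act : MulDistribMulAction P N := actConj P N hact
  have hinv : ∀ (p : P), ∀ x ∈ Q', p • x ∈ Q' := by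
    intro p x hx
    exact ((mem_normalizer_iff.mp (hPQ p.2)) (x : G)).mp hx
  let actQ : MulDistribMulAction P (N ⧸ Q') := Cfsg.Agent.H532.CopAct.quotAct Q' hinv
  let actP : MulAction P Ω :=
    { smul := fun p H => ⟨MulAut.conj (p : G) • H.1, hPΩ p p.2 H.1 H.2⟩
      one_smul := fun H => Subtype.ext (by
        show MulAut.conj ((1 : P) : G) • H.1 = H.1
        rw [Subgroup.coe_one, map_one, one_smul])
      mul_smul := fun p q H => Subtype.ext (by
        show MulAut.conj ((p * q : P) : G) • H.1 = MulAut.conj (p : G) • MulAut.conj (q : G) • H.1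
        rw [Subgroup.coe_mul, map_mul, mul_smul]) }
  let actN : MulAction N Ω :=
    { smul := fun p H => ⟨MulAut.conj (p : G) • H.1, hNΩ p p.2 H.1 H.2⟩
      one_smul := fun H => Subtype.ext (by
        show MulAut.conj ((1 : N) : G) • H.1 = H.1
        rw [Subgroup.coe_one, map_one, one_smul])
      mul_smul := fun p q H => Subtype.ext (by
        show MulAut.conj ((p * q : N) : G) • H.1 = MulAut.conj (p : G) • MulAut.conj (q : G) • H.1
        rw [Subgroup.coe_mul, map_mul, mul_smul]) }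
  have hker : Q' ≤ (MulAction.toPermHom N Ω).ker := by
    intro n hn
    rw [MonoidHom.mem_ker]
    ext H : 1
    apply Subtype.ext
    exact hQΩ n hn H.1 H.2
  let φ : N ⧸ Q' →* Equiv.Perm Ω := QuotientGroup.lift Q' (MulAction.toPermHom N Ω) hker
  let actC : MulAction (N ⧸ Q') Ω := MulAction.compHom Ω φ
  have hsm : ∀ (n : N) (H : Ω), ((QuotientGroup.mk n : N ⧸ Q') • H).1 = MulAut.conj (n : G) • H.1 := fun n H => rfl
  have hneΩ : Nonempty Ω := hne.to_subtype
  have hcop : (Nat.card P).Coprime (Nat.card (N ⧸ Q')) := hPπ.coprime hcor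
  obtain ⟨⟨ω, hω⟩, -⟩ := Cfsg.Agent.H532.CopAct.glauberman (A := P) (G := N ⧸ Q') (Ω := Ω)
    (by
      intro a c H
      obtain ⟨n, rfl⟩ := QuotientGroup.mk_surjective c
      apply Subtype.ext
      show MulAut.conj (a : G) • MulAut.conj (n : G) • H.1 =
        MulAut.conj ((a : G) * n * (a : G)⁻¹) • MulAut.conj (a : G) • H.1
      rw [← mul_smul, ← mul_smul, ← map_mul, ← map_mul, inv_mul_cancel_right])
    hcop (Or.inl hsol)
    (by
      intro H₁ H₂
      obtain ⟨n, hn, hn'⟩ := htr H₁.1 H₁.2 H₂.1 H₂.2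
      exact ⟨QuotientGroup.mk (⟨n, hn⟩ : N), Subtype.ext hn'⟩)
  exact ⟨ω.1, ω.2, fun p hp => congrArg Subtype.val (hω ⟨p, hp⟩)⟩

omit [Finite G] in
theorem le_normalizer_of_smul {P H : Subgroup G} (h : ∀ p ∈ P, MulAut.conj p • H = H) : P ≤ normalizer (H : Set G) := by
  rw [le_normalizer_iff]
  intro p hp a ha
  have : MulAut.conj p a ∈ MulAut.conj p • H := ⟨a, ha, rfl⟩
  rw [h p hp] at this
  exact this

omit [Finite G] in
theorem smul_eq_of_mem {H : Subgroup G} {h : G} (hh : h ∈ H) : MulAut.conj h • H = H := by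
  ext x
  constructor
  · rintro ⟨y, hy, rfl⟩
    exact H.mul_mem (H.mul_mem hh hy) (H.inv_mem hh)
  · intro hx
    refine ⟨h⁻¹ * x * h, H.mul_mem (H.mul_mem (H.inv_mem hh) hx) hh, ?_⟩
    show h * (h⁻¹ * x * h) * h⁻¹ = x
    group

end Cfsg.Agent.H571.RV
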