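import Cfsg.Agent.H571.RV.FHallC
import Cfsg.Agent.H571.RV.Glaub

/-!
# `P ∩ X` is a Hall subgroup of `X` for `X` in the class `DFw` (helper571)
-/

set_option autoImplicit false

namespace Cfsg.Agent.H571.RV

open Subgroup Cfsg Cfsg.Agent.H988.CPi Cfsg.Agent.H571.DExt Cfsg.Agent.Solvable.SZ
open scoped Pointwise

universe u

variable {π : Set ℕ} {r : ℕ} {G : Type u} [Group G] [Finite G]

/-- an `r`-subgroup whose index in its normaliser is prime to `r` has index prime to `r` -/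
theorem not_dvd_relIndex {X Q : Subgroup G} [hr : Fact r.Prime] (hQX : Q ≤ X) (hQ : IsPGroup r Q)
    (h : ¬ r ∣ Q.relIndex (normalizer (Q : Set G) ⊓ X)) : ¬ r ∣ Q.relIndex X := by
  intro hd
  set Q₁ := Q.subgroupOf X with hQ₁
  have hc : Nat.card Q₁ = Nat.card Q := card_subgroupOf _ _ hQX
  obtain ⟨k, hk⟩ := IsPGroup.iff_card.mp hQ
  have h1 : r ^ (k + 1) ∣ Nat.card X := by
    rw [← card_mul_index Q₁, hc, hk, pow_succ]
    exact Nat.mul_dvd_mul_left _ hd
  have h2 := Sylow.prime_dvd_card_quotient_normalizer h1 (hc.trans hk)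
  apply h
  have h3 : Q.relIndex (normalizer (Q : Set G) ⊓ X) =
      Nat.card (normalizer (Q₁ : Set X) ⧸ Q₁.comap (normalizer (Q₁ : Set X)).subtype) := by
    have h4 : normalizer (Q₁ : Set X) = (normalizer (Q : Set G)).subgroupOf X := by
      ext x
      rw [mem_subgroupOf, mem_normalizer_iff, mem_normalizer_iff]
      constructor
      · intro hx g
        constructor
        · intro hg
          exact (hx ⟨g, hQX hg⟩).mp hg
        · intro hg
          have h5 : g ∈ X := by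
            have h6 := X.mul_mem (X.mul_mem (X.inv_mem x.2) (hQX hg)) x.2
            simpa [mul_assoc] using h6
          exact (hx ⟨g, h5⟩).mpr hg
      · intro hx g
        exact hx (g : G)
    have h7 : Nat.card (normalizer (Q₁ : Set X) ⧸ Q₁.comap (normalizer (Q₁ : Set X)).subtype) =
        Q₁.relIndex (normalizer (Q₁ : Set X)) := rfl
    rw [h7, h4, hQ₁, ← inf_subgroupOf_right (normalizer (Q : Set G)) X, relIndex_subgroupOf inf_le_right]
  rw [h3]
  exact h2

theorem DFw.inter_of_pgroup (X : Subgroup G) [hXn : X.Normal] {H A : Subgroup G} (h : DFw π r X H A) [hr : Fact r.Prime]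
    (hrπ : r ∈ π) {P : Subgroup G} (hP : Maximal (IsPiSubgroup π) P) (hsol : Group.IsSolvable P) (hQH : P ⊓ X ≤ H)
    (hQr : IsPGroup r (P ⊓ X : Subgroup G))
    (hcor : PiN' π ((P ⊓ X).relIndex (normalizer ((P ⊓ X : Subgroup G) : Set G) ⊓ X))) :
    PiN' π ((P ⊓ X).relIndex X) := by
  set Q := P ⊓ X with hQ
  have hQX : Q ≤ X := inf_le_right
  have hnd : ¬ r ∣ Q.relIndex X := not_dvd_relIndex hQX hQr (hcor r hr.out hrπ)
  set Ω : Set (Subgroup G) := {H' | Q ≤ H' ∧ ∃ x ∈ X, H' = MulAut.conj x • H} with hΩ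
  have hcard : ∀ H' ∈ Ω, Nat.card H' = Nat.card H := by
    rintro _ ⟨-, x, -, rfl⟩
    exact card_conj_smul _ _
  have hpi : ∀ H' ∈ Ω, PiN π (Nat.card H') := fun H' hH' => by rw [hcard H' hH']; exact h.pi
  have hleX : ∀ H' ∈ Ω, H' ≤ X := by
    rintro _ ⟨-, x, hx, rfl⟩
    exact (h.conj hx).le
  have hmem : ∀ g : G, ∀ H' ∈ Ω, Q ≤ MulAut.conj g • H' → MulAut.conj g • H' ∈ Ω := by
    intro g H' hH' hle
    have h1 : MulAut.conj g • H' ≤ X := by
      rintro _ ⟨y, hy, rfl⟩
      exact hXn.conj_mem y (hleX H' hH' hy) g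
    have h2 : PiN π (Nat.card (MulAut.conj g • H' : Subgroup G)) := by rw [card_conj_smul]; exact hpi H' hH'
    obtain ⟨x, hx, hx'⟩ := h.dom _ h1 h2
    refine ⟨hle, x, hx, eq_of_le_of_card_ge hx' ?_⟩
    rw [card_conj_smul, card_conj_smul, hcard H' hH']
  have hQn : ∀ g ∈ normalizer (Q : Set G), MulAut.conj g • Q = Q := by
    intro g hg
    apply eq_of_le_of_card_ge
    · rintro _ ⟨y, hy, rfl⟩
      exact (mem_normalizer_iff.mp hg y).mp hy
    · rw [card_conj_smul]
  have hPQ : P ≤ normalizer (Q : Set G) := by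
    rw [le_normalizer_iff]
    intro h hh k hk
    exact ⟨P.mul_mem (P.mul_mem hh hk.1) (P.inv_mem hh), hXn.conj_mem k hk.2 h⟩
  obtain ⟨H', hH', hfix⟩ := exists_fixed X hP.1 hsol hcor Ω
    ⟨H, hQH, 1, X.one_mem, by rw [map_one, one_smul]⟩
    (fun p hp H' hH' => hmem p H' hH' (by
      have h1 := smul_mono_right (MulAut.conj p) hH'.1
      rwa [hQn p (hPQ hp)] at h1))
    (fun n hn H' hH' => hmem n H' hH' (by
      have h1 := smul_mono_right (MulAut.conj n) hH'.1
      rwa [hQn n hn.1] at h1))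
    (fun q hq H' hH' => smul_eq_of_mem (hH'.1 hq))
    (by
      intro H₁ hH₁ H₂ hH₂
      obtain ⟨hQ1, x₁, hx₁, e₁⟩ := id hH₁
      obtain ⟨hQ2, x₂, hx₂, e₂⟩ := id hH₂
      set x := x₂ * x₁⁻¹ with hx
      have hxX : x ∈ X := X.mul_mem hx₂ (X.inv_mem hx₁)
      have hxe : MulAut.conj x • H₁ = H₂ := by
        rw [e₁, e₂, ← mul_smul, ← map_mul, hx, inv_mul_cancel_right]
      have hQx : MulAut.conj x • Q ≤ H₂ := by rw [← hxe]; exact smul_mono_right _ hQ1
      have hidx : ∀ Q₀ : Subgroup G, Q₀ ≤ H₂ → Nat.card Q₀ = Nat.card Q → ¬ r ∣ (Q₀.subgroupOf H₂).index := by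
        intro Q₀ h0 hc hd
        have h1 : Nat.card Q₀ * Q₀.relIndex H₂ = Nat.card H₂ := by
          rw [← card_subgroupOf _ _ h0]; exact card_mul_index _
        have h2 : Nat.card Q * Q.relIndex H₂ = Nat.card H₂ := by
          rw [← card_subgroupOf _ _ hQ2]; exact card_mul_index _
        rw [hc] at h1
        have h3 := Nat.eq_of_mul_eq_mul_left Nat.card_pos (h1.trans h2.symm)
        have h4 : Q.relIndex H₂ ∣ Q.relIndex X :=
          ⟨_, (relIndex_mul_relIndex Q H₂ X hQ2 (hleX H₂ hH₂)).symm⟩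
        have h5 : r ∣ Q.relIndex H₂ := by rw [← h3]; exact hd
        exact hnd (h5.trans h4)
      have hr1 : IsPGroup r (Q.subgroupOf H₂) := by
        obtain ⟨k, hk⟩ := IsPGroup.iff_card.mp hQr
        exact IsPGroup.iff_card.mpr ⟨k, by rw [card_subgroupOf _ _ hQ2]; exact hk⟩
      have hr2 : IsPGroup r ((MulAut.conj x • Q).subgroupOf H₂) := by
        obtain ⟨k, hk⟩ := IsPGroup.iff_card.mp hQr
        exact IsPGroup.iff_card.mpr ⟨k, by rw [card_subgroupOf _ _ hQx, card_conj_smul]; exact hk⟩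
      let S₁ : Sylow r H₂ := hr1.toSylow (hidx Q hQ2 rfl)
      let S₂ : Sylow r H₂ := hr2.toSylow (hidx _ hQx (card_conj_smul _ _))
      obtain ⟨t, ht⟩ := MulAction.exists_smul_eq H₂ S₂ S₁
      have ht' : MulAut.conj (t : G) • (MulAut.conj x • Q) = Q := by
        apply eq_of_le_of_card_ge
        · rintro _ ⟨y, hy, rfl⟩
          have h1 : (⟨y, hQx hy⟩ : H₂) ∈ S₂ := hy
          have h2 : MulAut.conj t (⟨y, hQx hy⟩ : H₂) ∈ (t • S₂ : Sylow r H₂) := ⟨_, h1, rfl⟩
          rw [ht] at h2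
          exact h2
        · rw [card_conj_smul, card_conj_smul]
      refine ⟨t * x, ⟨?_, X.mul_mem (hleX H₂ hH₂ t.2) hxX⟩, ?_⟩
      · rw [← mul_smul, ← map_mul] at ht'
        have h3 : Subgroup.zpowers ((t : G) * x) ≤ normalizer (Q : Set G) := by
          apply le_normalizer_of_smul
          rintro _ ⟨m, rfl⟩
          show MulAut.conj (((t : G) * x) ^ m) • Q = Q
          rw [map_zpow]
          have h4 : MulAut.conj ((t : G) * x) ∈ MulAction.stabilizer (MulAut G) Q := ht'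
          exact (MulAction.stabilizer (MulAut G) Q).zpow_mem h4 m
        exact h3 (mem_zpowers _)
      · rw [map_mul, mul_smul, hxe]
        exact smul_eq_of_mem t.2)
  have h1 : H' ≤ P := le_of_maximal hP (le_normalizer_of_smul hfix) (hpi H' hH')
  have h2 : H' = Q := le_antisymm (le_inf h1 (hleX H' hH')) hH'.1
  obtain ⟨-, x, hx, e⟩ := hH'
  rw [← h2, e]
  exact (h.conj hx).hall

end Cfsg.Agent.H571.RV
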